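import Groth.Agent.SpecLib.Codim
import Groth.Prelude.Def_Found
import Mathlib.AlgebraicGeometry.Stalk
import Mathlib.AlgebraicGeometry.AffineScheme
import Mathlib.AlgebraicGeometry.Properties

/-!
# Catenary orders, spaces and rings
-/

universe u v

open CategoryTheory AlgebraicGeometry TopologicalSpace Topology

namespace Groth.Agent.Cat15

/-- An order in which chains between two elements are bounded and saturated ones have equal length. -/
def PCat (α : Type v) [PartialOrder α] : Prop :=
  (∀ p q : α, p ≤ q → ∃ n : ℕ, ∀ s : LTSeries α, s.head = p → s.last = q → s.length ≤ n) ∧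
  ∀ s t : LTSeries α, s.head = t.head → s.last = t.last →
    (∀ i : Fin s.length, s (Fin.castSucc i) ⋖ s (Fin.succ i)) →
    (∀ i : Fin t.length, t (Fin.castSucc i) ⋖ t (Fin.succ i)) → s.length = t.length

theorem isCatenary_iff (R : Type u) [CommRing R] : CAlg.IsCatenary R ↔ PCat (PrimeSpectrum R) := Iff.rfl

variable {α β : Type v} [PartialOrder α] [PartialOrder β] (f : α ↪o β)

theorem covBy_map (hf : ∀ a z, f a ≤ z → z ∈ Set.range f) {a b : α} (h : a ⋖ b) : f a ⋖ f b := by
  refine ⟨f.lt_iff_lt.2 h.lt, fun z h1 h2 => ?_⟩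
  obtain ⟨c, rfl⟩ := hf a z h1.le
  exact h.2 (f.lt_iff_lt.1 h1) (f.lt_iff_lt.1 h2)

theorem pcat_of_embedding (hf : ∀ a z, f a ≤ z → z ∈ Set.range f) (h : PCat β) : PCat α := by
  refine ⟨fun p q hpq => ?_, fun s t h1 h2 hs ht => ?_⟩
  · obtain ⟨n, hn⟩ := h.1 (f p) (f q) (f.monotone hpq)
    exact ⟨n, fun s a b => hn (s.map f f.strictMono) (congrArg f a) (congrArg f b)⟩
  · exact h.2 (s.map f f.strictMono) (t.map f f.strictMono) (congrArg f h1) (congrArg f h2)
      (fun i => covBy_map f hf (hs i)) (fun i => covBy_map f hf (ht i))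

/-- Chains starting in an upper set stay in it. -/
theorem exists_lift (hf : ∀ a z, f a ≤ z → z ∈ Set.range f) (s : LTSeries β) {a : α} (ha : f a = s.head) :
    ∃ t : LTSeries α, ∃ h : t.length = s.length, ∀ i : Fin (t.length + 1), f (t i) = s (i.cast (by rw [h])) := by
  choose g hg using fun i => hf a (s i) (ha.le.trans (s.head_le i))
  exact ⟨⟨s.length, g, fun i => f.lt_iff_lt.1 (by rw [hg, hg]; exact s.step i)⟩, rfl, hg⟩

theorem pcat_of_cover {ι : Sort*} {γ : ι → Type v} [∀ i, PartialOrder (γ i)] (f : ∀ i, γ i ↪o β)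
    (hf : ∀ i a z, f i a ≤ z → z ∈ Set.range (f i)) (hc : ∀ b, ∃ i, b ∈ Set.range (f i))
    (h : ∀ i, PCat (γ i)) : PCat β := by
  refine ⟨fun p q hpq => ?_, fun s t h1 h2 hs ht => ?_⟩
  · obtain ⟨i, a, rfl⟩ := hc p
    obtain ⟨b, rfl⟩ := hf i a q hpq
    obtain ⟨n, hn⟩ := (h i).1 a b ((f i).le_iff_le.1 hpq)
    refine ⟨n, fun s hs hs' => ?_⟩
    obtain ⟨t, hl, ht⟩ := exists_lift (f i) (hf i) s hs.symm
    rw [← hl]
    refine hn t ((f i).injective ?_) ((f i).injective ?_)
    · exact (ht 0).trans hs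
    · exact (ht (Fin.last _)).trans ((congrArg s.toFun (Fin.ext (by simp [hl]))).trans hs')
  · obtain ⟨i, a, ha⟩ := hc s.head
    obtain ⟨s', hls, hs'⟩ := exists_lift (f i) (hf i) s ha
    obtain ⟨t', hlt, ht'⟩ := exists_lift (f i) (hf i) t (ha.trans h1)
    have hcov : ∀ {a b : γ i}, f i a ⋖ f i b → a ⋖ b := fun h =>
      ⟨(f i).lt_iff_lt.1 h.lt, fun z h1 h2 => h.2 ((f i).lt_iff_lt.2 h1) ((f i).lt_iff_lt.2 h2)⟩
    rw [← hls, ← hlt]
    refine (h i).2 s' t' ((f i).injective ?_) ((f i).injective ?_) (fun j => hcov ?_) (fun j => hcov ?_)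
    · exact (hs' 0).trans (h1.trans (ht' 0).symm)
    · exact (hs' (Fin.last _)).trans ((congrArg s.toFun (Fin.ext (by simp [hls]))).trans
        (h2.trans ((congrArg t.toFun (Fin.ext (by simp [hlt]))).trans (ht' (Fin.last _)).symm)))
    · rw [hs', hs']
      exact hs (j.cast hls)
    · rw [ht', ht']
      exact ht (j.cast hlt)

theorem pcat_congr (e : α ≃o β) : PCat α ↔ PCat β :=
  ⟨fun h => pcat_of_embedding e.symm.toOrderEmbedding (fun _ z _ => ⟨e z, e.symm_apply_apply z⟩) h,
    fun h => pcat_of_embedding e.toOrderEmbedding (fun _ z _ => ⟨e.symm z, e.apply_symm_apply z⟩) h⟩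

/-- The reversed chain. -/
def rev (s : LTSeries α) : LTSeries αᵒᵈ :=
  ⟨s.length, fun i => OrderDual.toDual (s i.rev), fun i => by
    show s (i.succ).rev < s (i.castSucc).rev
    rw [Fin.rev_succ, Fin.rev_castSucc]
    exact s.step i.rev⟩

theorem pcat_dual (h : PCat α) : PCat αᵒᵈ := by
  refine ⟨fun p q hpq => ?_, fun s t h1 h2 hs ht => ?_⟩
  · obtain ⟨n, hn⟩ := h.1 (OrderDual.ofDual q) (OrderDual.ofDual p) hpq
    refine ⟨n, fun s hs hs' => ?_⟩
    refine hn ((rev (α := αᵒᵈ) s).map (fun x => (OrderDual.ofDual (OrderDual.ofDual x) : α)) (fun _ _ h => h)) ?_ ?_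
    · show OrderDual.ofDual (s (Fin.rev 0)) = _
      rw [Fin.rev_zero]; exact congrArg _ hs'
    · show OrderDual.ofDual (s (Fin.rev (Fin.last _))) = _
      exact (congrArg (fun j => OrderDual.ofDual (s j)) (Fin.rev_last _)).trans (congrArg _ hs)
  · refine h.2 ((rev (α := αᵒᵈ) s).map (fun x => (OrderDual.ofDual (OrderDual.ofDual x) : α)) (fun _ _ h => h))
      ((rev (α := αᵒᵈ) t).map (fun x => (OrderDual.ofDual (OrderDual.ofDual x) : α)) (fun _ _ h => h)) ?_ ?_
      (fun i => ?_) (fun i => ?_)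
    · show OrderDual.ofDual (s (Fin.rev 0)) = OrderDual.ofDual (t (Fin.rev 0))
      rw [Fin.rev_zero, Fin.rev_zero]; exact congrArg _ h2
    · show OrderDual.ofDual (s (Fin.rev (Fin.last _))) = OrderDual.ofDual (t (Fin.rev (Fin.last _)))
      exact ((congrArg (fun j => OrderDual.ofDual (s j)) (Fin.rev_last _)).trans (congrArg _ h1)).trans
        (congrArg (fun j => OrderDual.ofDual (t j)) (Fin.rev_last _)).symm
    · show OrderDual.ofDual (s (Fin.rev i.castSucc)) ⋖ OrderDual.ofDual (s (Fin.rev i.succ))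
      have := hs (Fin.rev (n := s.length) i)
      rw [← Fin.rev_castSucc, ← Fin.rev_succ] at *
      exact this.toDual
    · show OrderDual.ofDual (t (Fin.rev i.castSucc)) ⋖ OrderDual.ofDual (t (Fin.rev i.succ))
      have := ht (Fin.rev (n := t.length) i)
      rw [← Fin.rev_castSucc, ← Fin.rev_succ] at *
      exact this.toDual

theorem pcat_dual_iff : PCat αᵒᵈ ↔ PCat α :=
  ⟨fun h => (pcat_congr (OrderIso.dualDual α)).2 (pcat_dual h), pcat_dual⟩

theorem isCatenarySpace_iff_pcat (X : Type u) [TopologicalSpace X] :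
    PtTop.IsCatenarySpace X ↔ PCat (IrreducibleCloseds X) := by
  constructor
  · intro h
    refine ⟨fun p q hpq => ?_, fun s t h1 h2 hs ht => ?_⟩
    · obtain ⟨n, hn⟩ := ENat.ne_top_iff_exists.1 (h p q hpq).1
      refine ⟨n, fun s a b => ?_⟩
      have := SpecLib.le_codim s a (T := (q : Set X)) (by rw [b])
      rw [← hn] at this
      exact_mod_cast this
    · have hle : s.head ≤ s.last := s.monotone (Fin.zero_le _)
      have e1 := (h _ _ hle).2 s rfl rfl hs
      have e2 := (h _ _ hle).2 t h1.symm h2.symm ht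
      exact_mod_cast e1.trans e2.symm
  · rintro ⟨hb, he⟩ T T' hle
    obtain ⟨n, hn⟩ := hb T T' hle
    have hfin : PtTop.codim T (T' : Set X) ≠ ⊤ := by
      refine ne_top_of_le_ne_top (ENat.coe_ne_top n) (SpecLib.codim_le fun s hs hs' => ?_)
      rcases eq_or_lt_of_le (show s.last ≤ T' from hs') with e | e
      · exact_mod_cast hn s hs e
      · have := hn (s.snoc T' e) (by rw [RelSeries.head_snoc, hs]) (RelSeries.last_snoc _ _ _)
        rw [RelSeries.snoc_length] at this
        exact_mod_cast (by omega : s.length ≤ n)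
    refine ⟨hfin, fun s hs hs' hc => ?_⟩
    obtain ⟨m, hm1, hm2, hm3⟩ := SpecLib.exists_satSeries hle hfin
    rw [← hm3]
    exact_mod_cast he s m.toLT (hs.trans hm1.symm) (hs'.trans hm2.symm) hc (fun i => m.step i)

instance schemePartialOrder (X : Scheme.{u}) : PartialOrder X where
  le_antisymm _ _ h h' := ((Scheme.le_iff_specializes.1 h').antisymm (Scheme.le_iff_specializes.1 h)).eq

/-- Points of a scheme under generalisation. -/
noncomputable def closedsEquiv (X : Scheme.{u}) : IrreducibleCloseds X ≃o X where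
  toFun Z := Z.2.genericPoint
  invFun x := ⟨closure ({x} : Set X), isIrreducible_singleton.closure, isClosed_closure⟩
  left_inv Z := IrreducibleCloseds.ext (Z.2.genericPoint_closure_eq.trans Z.3.closure_eq)
  right_inv x := (isIrreducible_singleton.closure.isGenericPoint_genericPoint_closure).eq
    (by rw [closure_closure]; exact isGenericPoint_closure)
  map_rel_iff' {Z W} := by
    show Z.2.genericPoint ≤ W.2.genericPoint ↔ Z ≤ W
    rw [Scheme.le_iff_specializes, (W.2.isGenericPoint_genericPoint W.3).specializes_iff_mem]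
    refine ⟨fun h => ?_, fun h => h (Z.2.isGenericPoint_genericPoint Z.3).mem⟩
    show (Z : Set X) ⊆ W
    exact (Z.2.isGenericPoint_genericPoint Z.3).def.symm.subset.trans
      (W.3.closure_subset_iff.2 (Set.singleton_subset_iff.2 h))

theorem isCatenarySpace_scheme (X : Scheme.{u}) : PtTop.IsCatenarySpace X ↔ PCat X :=
  (isCatenarySpace_iff_pcat X).trans (pcat_congr (closedsEquiv X))

theorem isCatenary_iff_spec (R : CommRingCat.{u}) : CAlg.IsCatenary R ↔ PCat (Spec R : Scheme.{u}) :=
  (isCatenary_iff R).trans (pcat_dual_iff.symm.trans (pcat_congr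
    ({ toFun := fun p => (OrderDual.ofDual p : PrimeSpectrum R)
       invFun := fun p => OrderDual.toDual p
       left_inv := fun _ => rfl
       right_inv := fun _ => rfl
       map_rel_iff' := fun {a b} => by
         show (show (Spec R : Scheme.{u}) from _) ≤ _ ↔ _
         rw [Scheme.le_iff_specializes]
         exact (PrimeSpectrum.le_iff_specializes _ _).symm } : (PrimeSpectrum R)ᵒᵈ ≃o (Spec R : Scheme.{u}))))

/-- Localisations of catenary rings are catenary. -/
theorem isCatenary_localization {C B : Type u} [CommRing C] [CommRing B] [Algebra C B] (M : Submonoid C)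
    [IsLocalization M B] (h : CAlg.IsCatenary C) : CAlg.IsCatenary B := by
  rw [isCatenary_iff, ← pcat_dual_iff] at h ⊢
  let g : (PrimeSpectrum B)ᵒᵈ ↪o (PrimeSpectrum C)ᵒᵈ :=
    (OrderEmbedding.ofMapLEIff (PrimeSpectrum.comap (algebraMap C B)) fun a b => by
      rw [PrimeSpectrum.le_iff_specializes, PrimeSpectrum.le_iff_specializes]
      exact (PrimeSpectrum.localization_comap_isEmbedding B M).specializes_iff).dual
  refine pcat_of_embedding g (fun a z hz => ?_) h
  have hz' : (OrderDual.ofDual z).asIdeal ≤ (PrimeSpectrum.comap (algebraMap C B) (OrderDual.ofDual a)).asIdeal := hz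
  obtain ⟨c, hc⟩ : OrderDual.ofDual z ∈ Set.range (PrimeSpectrum.comap (algebraMap C B)) := by
    rw [PrimeSpectrum.localization_comap_range B M]
    have : PrimeSpectrum.comap (algebraMap C B) (OrderDual.ofDual a) ∈
        Set.range (PrimeSpectrum.comap (algebraMap C B)) := ⟨_, rfl⟩
    rw [PrimeSpectrum.localization_comap_range B M] at this
    exact Disjoint.mono_right hz' this
  exact ⟨OrderDual.toDual c, congrArg OrderDual.toDual hc⟩

/-- A preimmersion embeds points as an order. -/
noncomputable def pointsEmbedding {X Y : Scheme.{u}} (g : Y ⟶ X) (hg : IsEmbedding g) : Y ↪o X :=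
  OrderEmbedding.ofMapLEIff g fun a b => by
    rw [Scheme.le_iff_specializes, Scheme.le_iff_specializes]
    exact hg.specializes_iff

theorem pcat_stalk (X : Scheme.{u}) : PCat X ↔ ∀ x : X, CAlg.IsCatenary (X.presheaf.stalk x) := by
  let e : ∀ x : X, (Spec (X.presheaf.stalk x) : Scheme.{u}) ↪o X := fun x =>
    pointsEmbedding (X.fromSpecStalk x) (X.fromSpecStalk x).isEmbedding
  have hr : ∀ x : X, Set.range (e x) = {y | y ⤳ x} := fun x => X.range_fromSpecStalk (x := x)
  have hf : ∀ x a z, e x a ≤ z → z ∈ Set.range (e x) := fun x a z h => by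
    rw [hr]
    exact (Scheme.le_iff_specializes.1 h).trans ((hr x).le ⟨a, rfl⟩)
  refine ⟨fun h x => (isCatenary_iff_spec _).2 (pcat_of_embedding (e x) (hf x) h), fun h => ?_⟩
  exact pcat_of_cover e hf (fun b => ⟨b, by rw [hr]; exact specializes_rfl⟩)
    fun x => (isCatenary_iff_spec _).1 (h x)

theorem pcat_affineOpen {X : Scheme.{u}} (U : X.affineOpens) :
    ∃ e : (Spec Γ(X, U.1) : Scheme.{u}) ↪o X, Set.range e = (U.1 : Set X) ∧
      ∀ a z, e a ≤ z → z ∈ Set.range e := by
  have hU : IsAffineOpen U.1 := U.2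
  refine ⟨pointsEmbedding hU.fromSpec hU.fromSpec.isEmbedding, hU.range_fromSpec, fun a z h => ?_⟩
  show z ∈ Set.range hU.fromSpec
  rw [hU.range_fromSpec]
  exact (Scheme.le_iff_specializes.1 h).mem_open U.1.2 (hU.range_fromSpec.le ⟨a, rfl⟩)

end Groth.Agent.Cat15
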