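import Groth.Agent.SpecLib.Codim
import Mathlib.Topology.NoetherianSpace

/-!
# Local dimension functions on catenary Noetherian sober spaces
-/

universe u

open TopologicalSpace Topology

namespace Groth.Agent.Cat15

variable {X : Type u} [TopologicalSpace X]

/-- The closure of a point. -/
def cl (x : X) : IrreducibleCloseds X := ⟨closure {x}, isIrreducible_singleton.closure, isClosed_closure⟩

theorem cl_le_iff {x : X} {Z : IrreducibleCloseds X} : cl x ≤ Z ↔ x ∈ (Z : Set X) :=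
  ⟨fun h => h (subset_closure rfl), fun h => Z.3.closure_subset_iff.2 (Set.singleton_subset_iff.2 h)⟩

theorem codim_add (hX : PtTop.IsCatenarySpace X) {a b c : IrreducibleCloseds X} (hab : a ≤ b) (hbc : b ≤ c) :
    (PtTop.codim a (c : Set X)).toNat =
      (PtTop.codim a (b : Set X)).toNat + (PtTop.codim b (c : Set X)).toNat := by
  rw [SpecLib.isCatenarySpace_iff] at hX
  obtain ⟨s, h1, h2, h3⟩ := SpecLib.exists_satSeries hab (hX a b hab).1
  obtain ⟨t, g1, g2, g3⟩ := SpecLib.exists_satSeries hbc (hX b c hbc).1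
  have h := (hX a c (hab.trans hbc)).2 (s.smash t (h2.trans g1.symm))
    (by rw [RelSeries.head_smash, h1]) (by rw [RelSeries.last_smash, g2])
  rw [← h, ← h3, ← g3]
  rfl

theorem exists_dimensionFunction [NoetherianSpace X] [QuasiSober X] [T0Space X]
    (hX : PtTop.IsCatenarySpace X) (s : X) :
    ∃ U : Opens X, s ∈ U ∧ ∃ δ : U → ℤ, PtTop.IsDimensionFunction δ := by
  classical
  have hF : ∀ A : Set X, IsClosed A → ∃ F : Finset (IrreducibleCloseds X),
      ∀ y, y ∈ A ↔ ∃ Z ∈ F, y ∈ (Z : Set X) := fun A hA => by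
    obtain ⟨S, hS, hc, hi, rfl⟩ := NoetherianSpace.exists_finite_set_isClosed_irreducible hA
    refine ⟨hS.toFinset.attach.image fun Z => ⟨Z.1, hi _ (hS.mem_toFinset.1 Z.2), hc _ (hS.mem_toFinset.1 Z.2)⟩,
      fun y => ?_⟩
    simp only [Set.mem_sUnion, Finset.mem_image, Finset.mem_attach, true_and]
    constructor
    · rintro ⟨Z, hZ, hy⟩
      exact ⟨_, ⟨⟨Z, hS.mem_toFinset.2 hZ⟩, rfl⟩, hy⟩
    · rintro ⟨_, ⟨Z, rfl⟩, hy⟩
      exact ⟨Z.1, hS.mem_toFinset.1 Z.2, hy⟩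
  choose F hF using fun A : Closeds X => hF A A.isClosed
  let F₀ := F ⊤
  let bad := (F₀ ∪ (F₀ ×ˢ F₀).biUnion fun p => F (⟨p.1, p.1.3⟩ ⊓ ⟨p.2, p.2.3⟩)).filter fun Z : IrreducibleCloseds X => s ∉ (Z : Set X)
  let U : Opens X := ⟨(⋃ Z ∈ bad, (Z : Set X))ᶜ, (isClosed_biUnion_finset fun Z _ => Z.3).isOpen_compl⟩
  have hsU : s ∈ U := by
    simp only [U, Opens.mem_mk, Set.mem_compl_iff, Set.mem_iUnion, not_exists]
    exact fun Z hZ => (Finset.mem_filter.1 hZ).2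
  have hgood : ∀ y : U, ∀ Z ∈ F₀ ∪ (F₀ ×ˢ F₀).biUnion (fun p => F (⟨p.1, p.1.3⟩ ⊓ ⟨p.2, p.2.3⟩)),
      (y : X) ∈ (Z : Set X) → s ∈ (Z : Set X) := fun y Z hZ hy => by
    by_contra hs
    exact y.2 (Set.mem_biUnion (Finset.mem_filter.2 ⟨hZ, hs⟩) hy)
  let ψ : IrreducibleCloseds X → X → ℤ := fun Z y =>
    ((PtTop.codim (cl s) (Z : Set X)).toNat : ℤ) - (PtTop.codim (cl y) (Z : Set X)).toNat
  have hcompat : ∀ y : U, ∀ Z ∈ F₀, ∀ Z' ∈ F₀, (y : X) ∈ (Z : Set X) → (y : X) ∈ (Z' : Set X) →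
      ψ Z y = ψ Z' y := fun y Z hZ Z' hZ' hy hy' => by
    obtain ⟨W, hW, hyW⟩ := (hF (⟨Z, Z.3⟩ ⊓ ⟨Z', Z'.3⟩) y).1 ⟨hy, hy'⟩
    have hsW := hgood y W (Finset.mem_union_right _
      (Finset.mem_biUnion.2 ⟨(Z, Z'), Finset.mem_product.2 ⟨hZ, hZ'⟩, hW⟩)) hyW
    have hWZ : W ≤ Z := fun z hz => ((hF (⟨Z, Z.3⟩ ⊓ ⟨Z', Z'.3⟩) z).2 ⟨W, hW, hz⟩).1
    have hWZ' : W ≤ Z' := fun z hz => ((hF (⟨Z, Z.3⟩ ⊓ ⟨Z', Z'.3⟩) z).2 ⟨W, hW, hz⟩).2
    simp only [ψ]
    rw [codim_add hX (cl_le_iff.2 hsW) hWZ, codim_add hX (cl_le_iff.2 hyW) hWZ,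
      codim_add hX (cl_le_iff.2 hsW) hWZ', codim_add hX (cl_le_iff.2 hyW) hWZ']
    omega
  choose Zy hZy hyZy using fun y : U => (hF ⊤ y).1 trivial
  have hdiff : ∀ x y : U, (x : X) ⤳ y → ψ (Zy x) x - ψ (Zy y) y = (PtTop.codim (cl (y : X)) (cl (x : X) : Set X)).toNat :=
    fun x y h => by
      have hy : (y : X) ∈ (Zy x : Set X) := h.mem_closed (Zy x).3 (hyZy x)
      rw [hcompat y (Zy y) (hZy y) (Zy x) (hZy x) (hyZy y) hy]
      simp only [ψ]
      rw [codim_add hX (cl_le_iff.2 h.mem_closure : cl (y : X) ≤ cl (x : X)) (cl_le_iff.2 (hyZy x))]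
      omega
  have hne : ∀ x y : U, x ≠ y → (y : X) ⤳ x → ¬ (x : X) ⤳ y := fun x y hxy h h' =>
    hxy (Subtype.ext (h'.antisymm h).eq)
  refine ⟨U, hsU, fun y => ψ (Zy y) y, fun x y h hxy => ?_, fun x y h => ?_⟩
  · have h' : (x : X) ⤳ y := h.map continuous_subtype_val
    have hd := hdiff x y h'
    have hle : cl (y : X) ≤ cl (x : X) := cl_le_iff.2 h'.mem_closure
    have hlt : cl (y : X) < cl (x : X) := hle.lt_of_ne fun e =>
      hne y x (Ne.symm hxy) h' (specializes_iff_mem_closure.2 (e.ge (subset_closure rfl) : (x : X) ∈ closure {(y : X)}))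
    have := SpecLib.le_codim ((RelSeries.singleton _ (cl (y : X))).snoc (cl (x : X)) hlt)
      (Y := cl (y : X)) (T := (cl (x : X) : Set X)) (by rw [RelSeries.head_snoc]; rfl) (by rw [RelSeries.last_snoc])
    have hfin := (hX _ _ hle).1
    obtain ⟨n, hn⟩ := ENat.ne_top_iff_exists.1 hfin
    rw [← hn] at this hd
    have h1 : 1 ≤ n := by exact_mod_cast this
    simp only [ENat.toNat_coe] at hd
    show ψ (Zy y) y < ψ (Zy x) x
    omega
  · obtain ⟨hxy, hne', himm⟩ := h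
    have h' : (x : X) ⤳ y := hxy.map continuous_subtype_val
    have hle : cl (y : X) ≤ cl (x : X) := cl_le_iff.2 h'.mem_closure
    have hcov : cl (y : X) ⋖ cl (x : X) := by
      refine ⟨hle.lt_of_ne fun e => hne y x (Ne.symm hne') h'
        (specializes_iff_mem_closure.2 (e.ge (subset_closure rfl) : (x : X) ∈ closure {(y : X)})), fun Z h1 h2 => ?_⟩
      let z := Z.2.genericPoint
      have hgp : IsGenericPoint z (Z : Set X) := Z.2.isGenericPoint_genericPoint Z.3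
      have hxz : (x : X) ⤳ z := specializes_iff_mem_closure.2 (h2.le hgp.mem)
      have hzy : z ⤳ (y : X) := hgp.specializes (h1.le (subset_closure rfl))
      have hzU : z ∈ U := hzy.mem_open U.2 y.2
      rcases himm ⟨z, hzU⟩ ((subtype_specializes_iff _ _).2 hxz) ((subtype_specializes_iff _ _).2 hzy) with e | e
      · refine h2.ne (IrreducibleCloseds.ext (hgp.def.symm.trans ?_))
        rw [show z = (x : X) from congrArg Subtype.val e]; rfl
      · refine h1.ne' (IrreducibleCloseds.ext (hgp.def.symm.trans ?_))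
        rw [show z = (y : X) from congrArg Subtype.val e]; rfl
    have hd := hdiff x y h'
    rw [SpecLib.codim_of_covBy hcov] at hd
    show ψ (Zy x) x = ψ (Zy y) y + 1
    simp at hd ⊢
    omega

theorem isCatenarySpace_of_dimensionFunction [QuasiSober X] [T0Space X] {δ : X → ℤ}
    (hδ : PtTop.IsDimensionFunction δ) : PtTop.IsCatenarySpace X := by
  rw [SpecLib.isCatenarySpace_iff]
  refine fun T T' hle => ⟨SpecLib.codim_ne_top hδ T T', fun t h1 h2 => ?_⟩
  have := SpecLib.dim_sat hδ t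
  rw [h1, h2] at this
  rw [SpecLib.codim_eq_toNat hδ hle]
  congr 1
  omega

end Groth.Agent.Cat15
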